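import Groth.Agent.ReqForms45.Tens
import Groth.Agent.DRHyp.Omega
import Mathlib.AlgebraicGeometry.AffineScheme
import Mathlib.AlgebraicGeometry.Stalk

/-!
# Values at local-ring valued points of a compatible family of tensor forms
-/

set_option autoImplicit false
set_option linter.style.haveILetI false

universe u

open CategoryTheory AlgebraicGeometry Opposite TopologicalSpace

noncomputable section

namespace Groth.Agent.ReqForms45

variable {k : Type u} [CommRing k] {X : Scheme.{u}} (f : X ⟶ Spec (CommRingCat.of k))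

/-- The functions on an open, as an algebra over the base ring. -/
def Sec (_f : X ⟶ Spec (CommRingCat.of k)) (V : X.Opens) : Type u := Γ(X, V)

instance (V : X.Opens) : CommRing (Sec f V) := (inferInstance : CommRing Γ(X, V))

instance (V : X.Opens) : Algebra k (Sec f V) := (DRHyp.constHom f V).toAlgebra

theorem algebraMap_sec (V : X.Opens) (r : k) : algebraMap k (Sec f V) r = DRHyp.constHom f V r := rfl

/-- Restriction of functions, as an algebra map. -/
def secRes {V W : X.Opens} (h : W ≤ V) : Sec f V →ₐ[k] Sec f W where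
  toRingHom := (X.presheaf.map (homOfLE h).op).hom
  commutes' r := DRHyp.constHom_res f V h r

/-- A family of tensor forms on the affine opens, compatible with restriction. -/
structure FormData (ι : Type) where
  /-- The form on an affine open. -/
  t : ∀ V : X.affineOpens, T k ι (Sec f V.1)
  compat : ∀ (V W : X.affineOpens) (h : W.1 ≤ V.1), tmap (secRes f h) (t V) = t W

variable {f}

variable (f) in
/-- The inclusion of an affine open, with the functions as an algebra. -/
def fromSec (V : X.affineOpens) : Spec (CommRingCat.of (Sec f V.1)) ⟶ X := V.2.fromSpec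

instance (V : X.affineOpens) : IsOpenImmersion (fromSec f V) :=
  V.2.isOpenImmersion_fromSpec

theorem range_fromSec (V : X.affineOpens) : Set.range (fromSec f V) = V.1 := V.2.range_fromSpec

theorem fromSec_res {V W : X.affineOpens} (h : W.1 ≤ V.1) :
    Spec.map (CommRingCat.ofHom (secRes f h).toRingHom) ≫ fromSec f V = fromSec f W :=
  V.2.map_fromSpec W.2 (homOfLE h).op

theorem fromSec_comp (V : X.affineOpens) :
    fromSec f V ≫ f = Spec.map (CommRingCat.ofHom (algebraMap k (Sec f V.1))) := by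
  have h : CommRingCat.ofHom (algebraMap k (Sec f V.1)) =
      (Scheme.ΓSpecIso (CommRingCat.of k)).inv ≫ f.appLE ⊤ V.1 le_top := rfl
  rw [h]
  erw [Spec.map_comp]
  show V.2.fromSpec ≫ f = _
  rw [← (isAffineOpen_top _).SpecMap_appLE_fromSpec f V.2 le_top, IsAffineOpen.fromSpec_top,
    Scheme.isoSpec_Spec_inv]
  rfl

variable {A B : Type u} [CommRing A] [Algebra k A] [CommRing B] [Algebra k B] {ι : Type}

/-- The morphism of spectra of an algebra map. -/
abbrev specA (φ : A →ₐ[k] B) : Spec (CommRingCat.of B) ⟶ Spec (CommRingCat.of A) :=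
  Spec.map (CommRingCat.ofHom φ.toRingHom)

theorem specA_comp {C : Type u} [CommRing C] [Algebra k C] (φ : A →ₐ[k] B) (ψ : B →ₐ[k] C) :
    specA (ψ.comp φ) = specA ψ ≫ specA φ := by
  rw [← Spec.map_comp]; rfl

theorem specA_base (φ : A →ₐ[k] B) :
    specA φ ≫ Spec.map (CommRingCat.ofHom (algebraMap k A)) =
      Spec.map (CommRingCat.ofHom (algebraMap k B)) := by
  rw [← Spec.map_comp, ← CommRingCat.ofHom_comp, φ.toRingHom_eq_coe, φ.comp_algebraMap]

/-- The point of an algebra map out of the functions on an affine open. -/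
abbrev pointOf (V : X.affineOpens) (ψ : Sec f V.1 →ₐ[k] A) : Spec (CommRingCat.of A) ⟶ X :=
  specA ψ ≫ fromSec f V

/-- `θ` is the value of the family at the point `x`. -/
def Val (D : FormData f ι) (x : Spec (CommRingCat.of A) ⟶ X) (θ : T k ι A) : Prop :=
  ∃ (V : X.affineOpens) (ψ : Sec f V.1 →ₐ[k] A), pointOf V ψ = x ∧ tmap ψ (D.t V) = θ

theorem Val.comp {D : FormData f ι} {x : Spec (CommRingCat.of A) ⟶ X} {θ : T k ι A} (h : Val D x θ)
    (χ : A →ₐ[k] B) : Val D (specA χ ≫ x) (tmap χ θ) := by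
  obtain ⟨V, ψ, rfl, rfl⟩ := h
  refine ⟨V, χ.comp ψ, ?_, (tmap_comp_apply _ _ _).symm⟩
  rw [pointOf, specA_comp, Category.assoc]

theorem exists_factor [IsLocalRing A] (x : Spec (CommRingCat.of A) ⟶ X)
    (hx : x ≫ f = Spec.map (CommRingCat.ofHom (algebraMap k A))) (U : X.Opens)
    (hU : x (IsLocalRing.closedPoint A) ∈ U) :
    ∃ (V : X.affineOpens) (ψ : Sec f V.1 →ₐ[k] A), V.1 ≤ U ∧ pointOf V ψ = x := by
  obtain ⟨_, ⟨V, hV, rfl⟩, hxV, hVU⟩ := X.isBasis_affineOpens.exists_subset_of_mem_open hU U.2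
  have hr : Set.range x ⊆ Set.range (fromSec f ⟨V, hV⟩) := by
    rw [range_fromSec]
    rintro _ ⟨p, rfl⟩
    exact ((IsLocalRing.specializes_closedPoint p).map x.continuous).mem_open V.2 hxV
  let φ : CommRingCat.of (Sec f V) ⟶ CommRingCat.of A := Spec.preimage (IsOpenImmersion.lift (fromSec f ⟨V, hV⟩) x hr)
  have hφ : Spec.map φ ≫ fromSec f ⟨V, hV⟩ = x := by
    rw [Spec.map_preimage]; exact IsOpenImmersion.lift_fac _ _ _
  have hc : CommRingCat.ofHom (algebraMap k (Sec f V)) ≫ φ = CommRingCat.ofHom (algebraMap k A) := by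
    apply Spec.map_injective
    rw [Spec.map_comp, ← fromSec_comp ⟨V, hV⟩, ← Category.assoc, hφ, hx]
  exact ⟨⟨V, hV⟩, ⟨φ.hom, fun r => congr(($hc).hom r)⟩, hVU, hφ⟩

theorem exists_val [IsLocalRing A] (D : FormData f ι) (x : Spec (CommRingCat.of A) ⟶ X)
    (hx : x ≫ f = Spec.map (CommRingCat.ofHom (algebraMap k A))) : ∃ θ, Val D x θ := by
  obtain ⟨V, ψ, -, h⟩ := exists_factor x hx ⊤ trivial
  exact ⟨_, V, ψ, h, rfl⟩

theorem pointOf_eq_of_le {V W : X.affineOpens} (h : W.1 ≤ V.1) (ψ : Sec f V.1 →ₐ[k] A)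
    (φ : Sec f W.1 →ₐ[k] A) (e : pointOf W φ = pointOf V ψ) : ψ = φ.comp (secRes f h) := by
  have h1 : specA (φ.comp (secRes f h)) ≫ fromSec f V = pointOf W φ := by
    rw [specA_comp, Category.assoc]
    exact congrArg (specA φ ≫ ·) (fromSec_res h)
  have h2 := Spec.map_injective ((cancel_mono (fromSec f V)).1 ((h1.trans e).symm))
  exact AlgHom.ext fun a => congr(($h2).hom a)

theorem Val.unique [IsLocalRing A] {D : FormData f ι} {x : Spec (CommRingCat.of A) ⟶ X}
    {θ θ' : T k ι A} (h : Val D x θ) (h' : Val D x θ') : θ = θ' := by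
  obtain ⟨V, ψ, hψ, rfl⟩ := h
  obtain ⟨W, φ, hφ, rfl⟩ := h'
  have hbase : x ≫ f = Spec.map (CommRingCat.ofHom (algebraMap k A)) := by
    rw [← hψ, pointOf, Category.assoc, fromSec_comp, specA_base]
  have hm : ∀ (V : X.affineOpens) (ψ : Sec f V.1 →ₐ[k] A), pointOf V ψ = x →
      x (IsLocalRing.closedPoint A) ∈ V.1 := fun V ψ e => by
    rw [← SetLike.mem_coe, ← range_fromSec (f := f) V, ← e]
    exact ⟨_, rfl⟩
  obtain ⟨U, χ, hU, hχ⟩ := exists_factor x hbase (V.1 ⊓ W.1) ⟨hm V ψ hψ, hm W φ hφ⟩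
  rw [pointOf_eq_of_le (hU.trans inf_le_left) ψ χ (hχ.trans hψ.symm),
    pointOf_eq_of_le (hU.trans inf_le_right) φ χ (hχ.trans hφ.symm), ← tmap_comp_apply,
    ← tmap_comp_apply, D.compat, D.compat]

end Groth.Agent.ReqForms45
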