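import Groth.Agent.ReqForms45.Tens
import Mathlib.LinearAlgebra.ExteriorPower.Basis
import Mathlib.RingTheory.Flat.Basic

/-!
# Exterior powers and tensor products inside tensor powers of differentials
-/

set_option autoImplicit false
set_option linter.style.haveILetI false

universe u

open TensorProduct KaehlerDifferential

noncomputable section

namespace Groth.Agent.ReqForms45

/-- The exterior power of a free module embeds in its tensor power. -/
theorem toTensorPower_injective {R M : Type u} [CommRing R] [AddCommGroup M] [Module R M]
    [Module.Free R M] (n : ℕ) : Function.Injective (exteriorPower.toTensorPower R M n) := by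
  classical
  let b := Module.Free.chooseBasis R M
  let : LinearOrder (Module.Free.ChooseBasisIndex R M) := linearOrderOfSTO WellOrderingRel
  rw [injective_iff_map_eq_zero]
  intro x hx
  refine (b.exteriorPower n).ext_elem fun s => ?_
  rw [exteriorPower.basis_repr_apply, map_zero]
  show exteriorPower.pairingDual R M n (exteriorPower.ιMulti R n _) x = 0
  rw [exteriorPower.pairingDual, exteriorPower.alternatingMapLinearEquiv_apply_ιMulti]
  show TensorPower.multilinearMapToDual R M n _ (exteriorPower.toTensorPower R M n x) = 0
  rw [hx, map_zero]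

variable {k : Type u} [CommRing k] {A B : Type u} [CommRing A] [Algebra k A] [CommRing B] [Algebra k B]
  {ι ι' : Type}

theorem tmap_toTensorPower (φ : A →ₐ[k] B) {n : ℕ} (v : Fin n → Ω[A⁄k]) :
    tmap φ (exteriorPower.toTensorPower A (Ω[A⁄k]) n (exteriorPower.ιMulti A n v)) =
      exteriorPower.toTensorPower B (Ω[B⁄k]) n (exteriorPower.ιMulti B n (fun j => kd φ (v j))) := by
  rw [exteriorPower.toTensorPower_apply_ιMulti, exteriorPower.toTensorPower_apply_ιMulti, map_sum]
  refine Finset.sum_congr rfl fun σ _ => ?_
  rw [Units.smul_def, Units.smul_def, map_zsmul, tmap_tprod]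

/-- Concatenation of tensor powers. -/
def tcat : T k ι A ⊗[A] T k ι' A ≃ₗ[A] T k (ι ⊕ ι') A :=
  PiTensorProduct.tmulEquiv A (Ω[A⁄k])

theorem tmap_tcat (φ : A →ₐ[k] B) (x : T k ι A) (y : T k ι' A) :
    tmap φ (tcat (x ⊗ₜ[A] y)) = tcat (tmap φ x ⊗ₜ[B] tmap φ y) := by
  induction x using PiTensorProduct.induction_on with
  | smul_tprod a v =>
    induction y using PiTensorProduct.induction_on with
    | smul_tprod b w =>
      have h : ∀ {C : Type u} [CommRing C] [Algebra k C] (v : ι → Ω[C⁄k]) (w : ι' → Ω[C⁄k]),
          tcat ((PiTensorProduct.tprod C v) ⊗ₜ[C] (PiTensorProduct.tprod C w)) =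
            PiTensorProduct.tprod C (Sum.elim v w) := fun v w => PiTensorProduct.tmulEquiv_apply _ _ v w
      have h2 : (fun j => kd φ (Sum.elim v w j)) =
          Sum.elim (fun j => kd φ (v j)) (fun j => kd φ (w j)) :=
        funext fun j => by rcases j with j | j <;> rfl
      simp only [← TensorProduct.smul_tmul', TensorProduct.tmul_smul, map_smul, tmap_smul, h, tmap_tprod, h2]
    | add y z hy hz => simp only [TensorProduct.tmul_add, map_add, hy, hz]
  | add x z hx hz => simp only [TensorProduct.add_tmul, map_add, hx, hz]

/-- Tensor product of injective maps between flat modules. -/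
theorem tensor_map_injective {R M N P Q : Type u} [CommRing R] [AddCommGroup M] [Module R M]
    [AddCommGroup N] [Module R N] [AddCommGroup P] [Module R P] [AddCommGroup Q] [Module R Q]
    [Module.Flat R M] [Module.Flat R Q] (f : M →ₗ[R] P) (g : N →ₗ[R] Q) (hf : Function.Injective f)
    (hg : Function.Injective g) : Function.Injective (TensorProduct.map f g) := by
  rw [← LinearMap.rTensor_comp_lTensor]
  exact (Module.Flat.rTensor_preserves_injective_linearMap f hf).comp
    (Module.Flat.lTensor_preserves_injective_linearMap g hg)

end Groth.Agent.ReqForms45
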