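import Groth.Agent.ReqForms45.Line
import Groth.Agent.H23.P1Charts
import Groth.Agent.ProjPt.Basic
import Groth.Prelude.Def_W4c5nonratstablectREq

/-!
# The two charts of the projective line at the generic point
-/

set_option autoImplicit false
set_option linter.style.haveILetI false

universe u

open CategoryTheory CategoryTheory.Limits AlgebraicGeometry Polynomial HomogeneousLocalization

noncomputable section

namespace Groth.Agent.ReqForms45

open H23

theorem eval₂_scale {R S σ : Type*} [CommSemiring R] [CommSemiring S] (g : R →+* S) (v : σ → S) (c : S)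
    {p : MvPolynomial σ R} {n : ℕ} (hp : p.IsHomogeneous n) :
    MvPolynomial.eval₂Hom g (fun j => c * v j) p = c ^ n * MvPolynomial.eval₂Hom g v p := by
  conv_lhs => rw [p.as_sum]
  conv_rhs => rw [p.as_sum]
  rw [map_sum, map_sum, Finset.mul_sum]
  refine Finset.sum_congr rfl fun d hd => ?_
  have hn : d.sum (fun _ e => e) = n := by
    have h := hp (MvPolynomial.mem_support_iff.1 hd)
    rw [Finsupp.weight_apply] at h
    simpa using h
  rw [MvPolynomial.eval₂Hom_monomial, MvPolynomial.eval₂Hom_monomial, ← hn]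
  simp only [Finsupp.prod, Finsupp.sum, mul_pow, Finset.prod_mul_distrib, Finset.prod_pow_eq_pow_sum]
  ring

theorem spec_indep {S : Type u} [CommRing S]
    (F : MvPolynomial (Fin (1 + 1)) P1.R0.{u} →+* S) (i j : Fin (1 + 1))
    (hi : IsUnit (F (P1.T i))) (hj : IsUnit (F (P1.T j))) :
    Spec.map (CommRingCat.ofHom (ProjPt.coordHom P1.grading F hi)) ≫
        Proj.awayι P1.grading (P1.T i) (P1.X_mem i) one_pos =
      Spec.map (CommRingCat.ofHom (ProjPt.coordHom P1.grading F hj)) ≫
        Proj.awayι P1.grading (P1.T j) (P1.X_mem j) one_pos := by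
  have hx : IsUnit (F (P1.T i * P1.T j)) := by rw [map_mul]; exact hi.mul hj
  rw [← ProjPt.coordHom_awayMap P1.grading F (P1.X_mem i) (P1.X_mem j) rfl hi hx,
    ← ProjPt.coordHom_awayMap P1.grading F (P1.X_mem j) (P1.X_mem i) (mul_comm _ _) hj hx,
    CommRingCat.ofHom_comp, CommRingCat.ofHom_comp, Spec.map_comp, Spec.map_comp, Category.assoc,
    Category.assoc, Proj.SpecMap_awayMap_awayι, Proj.SpecMap_awayMap_awayι]

variable {k K : Type u} [Field k] [Field K] [Algebra k K]

/-- The generic point of a chart of the projective line. -/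
def genChart (i : Fin (1 + 1)) : Spec (CommRingCat.of (Kx K)) ⟶ REq.P1K K :=
  Spec.map (CommRingCat.ofHom (algebraMap K[X] (Kx K))) ≫ P1Charts.chart K i

/-- The homogeneous coordinates of the generic point, normalised at the first coordinate. -/
def genCoord (K : Type u) [Field K] (v : Fin (1 + 1) → Kx K) :
    MvPolynomial (Fin (1 + 1)) P1.R0.{u} →+* Kx K :=
  MvPolynomial.eval₂Hom ((Int.castRingHom (Kx K)).comp ULift.ringEquiv.toRingHom) v

theorem comp_ev (g : K[X] →+* Kx K) (i : Fin (1 + 1)) :
    (g.comp (P1Charts.upX K)).comp (MvPolynomial.eval₂Hom ((Int.castRingHom P1Charts.Z.{u}[X]).comp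
        ULift.ringEquiv.toRingHom) (Function.update (fun _ => Polynomial.X) i 1)) =
      genCoord K (Function.update (fun _ => g Polynomial.X) i 1) := by
  refine MvPolynomial.ringHom_ext (fun r => ?_) (fun j => ?_)
  · simp [genCoord]
  · by_cases hj : j = i
    · subst hj; simp [genCoord]
    · simp [genCoord, Function.update_of_ne hj]

theorem isUnit_genCoord (i : Fin (1 + 1)) (x : Kx K) :
    IsUnit (genCoord K (Function.update (fun _ => x) i 1) (P1.T i)) := by
  simp [genCoord]

theorem chartMap_eq (i : Fin (1 + 1)) (S : Type u) [CommRing S] (b : S) :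
    P1.chartMap i S b = ProjPt.coordHom P1.grading
      (MvPolynomial.eval₂Hom ((Int.castRingHom S).comp ULift.ringEquiv.toRingHom)
        (Function.update (fun _ => b) i 1)) (t := P1.T i) (by simp) := rfl

theorem comp_θ (g : K[X] →+* Kx K) (i : Fin (1 + 1)) :
    (g.comp (P1Charts.upX K)).comp (P1Charts.θ i) = ProjPt.coordHom P1.grading
      (genCoord K (Function.update (fun _ => g Polynomial.X) i 1)) (isUnit_genCoord i _) := by
  refine (congrArg ((g.comp (P1Charts.upX K)).comp) (chartMap_eq i P1Charts.Z.{u}[X] Polynomial.X)).trans ?_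
  rw [ProjPt.comp_coordHom]
  simp only [comp_ev]

theorem genChart_fst (g : K[X] →+* Kx K) (i : Fin (1 + 1)) :
    Spec.map (CommRingCat.ofHom g) ≫ P1Charts.chart K i ≫ pullback.fst _ _ =
      Spec.map (CommRingCat.ofHom (ProjPt.coordHom P1.grading
          (genCoord K (Function.update (fun _ => g Polynomial.X) i 1)) (isUnit_genCoord i _))) ≫
        Proj.awayι P1.grading (P1.T i) (P1.X_mem i) one_pos := by
  have e : Spec.map (CommRingCat.ofHom g) ≫ Spec.map (CommRingCat.ofHom (P1Charts.upX K)) ≫
      Spec.map (CommRingCat.ofHom (P1Charts.θ i)) =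
      Spec.map (CommRingCat.ofHom ((g.comp (P1Charts.upX K)).comp (P1Charts.θ i))) := by
    rw [CommRingCat.ofHom_comp, CommRingCat.ofHom_comp, Spec.map_comp, Spec.map_comp, Category.assoc]
  rw [← comp_θ, ← e, P1Charts.chart_fst, P1Charts.chartZ]
  exact ((Category.assoc _ _ _).trans (congrArg _ (Category.assoc _ _ _))).symm

/-- The two charts at the generic point differ by inverting the coordinate. -/
theorem flip_genChart :
    Spec.map (CommRingCat.ofHom (flipHom (k := k) (K := K)).toRingHom) ≫ genChart 0 = genChart 1 := by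
  have hg : (flipHom (k := k) (K := K)).toRingHom.comp (algebraMap K[X] (Kx K)) =
      (invHom (k := k) (K := K)).toRingHom :=
    congrArg AlgHom.toRingHom (flipHom_toKx (k := k) (K := K))
  rw [genChart, genChart, ← Category.assoc, ← Spec.map_comp, ← CommRingCat.ofHom_comp, hg]
  apply pullback.hom_ext
  · refine (Category.assoc _ _ _).trans (Eq.trans ?_ (Category.assoc _ _ _).symm)
    refine (genChart_fst _ 0).trans (Eq.trans ?_ (genChart_fst _ 1).symm)
    let x := algebraMap K[X] (Kx K) Polynomial.X
    let v₁ : Fin (1 + 1) → Kx K := Function.update (fun _ => x) 1 1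
    let v₀ : Fin (1 + 1) → Kx K := Function.update (fun _ => invX K) 0 1
    have hx : x ≠ 0 := algX_ne_zero
    have hv : v₁ = fun j => x * v₀ j := by
      funext j
      fin_cases j <;> simp [v₀, v₁, x, invX, mul_inv_cancel₀ (algX_ne_zero (K := K))]
    have hu1 : IsUnit (genCoord K v₁ (P1.T 0)) := by simp [genCoord, v₁, hx]
    have hu0 : IsUnit (genCoord K v₀ (P1.T 0)) := isUnit_genCoord 0 _
    have e1 : (invHom (k := k) (K := K)).toRingHom Polynomial.X = invX K := by simp [invHom]
    simp only [e1]
    rw [← spec_indep (genCoord K v₁) 0 1 hu1 (isUnit_genCoord 1 _),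
      ProjPt.coordHom_scale P1.grading (genCoord K v₀) (genCoord K v₁) (P1.X_mem 0) x (fun n a ha => by
        rw [hv]; exact eval₂_scale _ _ _ ((MvPolynomial.mem_homogeneousSubmodule _ _).1 ha)) hu0 hu1]
  · refine (Category.assoc _ _ _).trans (Eq.trans ?_ (Category.assoc _ _ _).symm)
    refine (congrArg _ (P1Charts.chart_toBase K 0)).trans
      (Eq.trans ?_ (congrArg _ (P1Charts.chart_toBase K 1)).symm)
    rw [← Spec.map_comp, ← Spec.map_comp, ← CommRingCat.ofHom_comp, ← CommRingCat.ofHom_comp]
    congr 2
    ext a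
    exact AlgHom.congr_fun (invHom_cHom (k := k) (K := K)) a

end Groth.Agent.ReqForms45
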