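import Groth.Agent.ReqForms45.Tens
import Mathlib.RingTheory.Derivation.MapCoeffs
import Mathlib.RingTheory.Localization.AtPrime.Basic
import Mathlib.RingTheory.Localization.FractionRing
import Mathlib.Algebra.Polynomial.Reverse
import Mathlib.LinearAlgebra.FreeModule.Basic
import Mathlib.LinearAlgebra.FiniteDimensional.Defs

/-!
# Tensor forms on the line with no poles are constant
-/

set_option autoImplicit false
set_option linter.style.haveILetI false

universe u

open Polynomial KaehlerDifferential

noncomputable section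

namespace Groth.Agent.ReqForms45

variable {k K : Type u} [Field k] [Field K] [Algebra k K]

/-- Constants of the line. -/
def cHom : K →ₐ[k] K[X] := IsScalarTower.toAlgHom k K K[X]

/-- Rational functions on the line. -/
abbrev Kx (K : Type u) [Field K] : Type u := FractionRing K[X]

/-- Polynomials as rational functions. -/
def toKx : K[X] →ₐ[k] Kx K := IsScalarTower.toAlgHom k K[X] (Kx K)

/-- Evaluation at a point of the line. -/
def evHom (t : K) : K[X] →ₐ[k] K := (Polynomial.aeval t : K[X] →ₐ[K] K).restrictScalars k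

theorem toKx_injective : Function.Injective (toKx (k := k) (K := K)) :=
  IsFractionRing.injective K[X] (Kx K)

theorem evHom_cHom (t : K) : (evHom (k := k) t).comp cHom = AlgHom.id k K :=
  AlgHom.ext fun a => by simp [evHom, cHom]

theorem exists_lineBasis {κ : Type u} (b : Module.Basis κ K (Ω[K⁄k])) :
    ∃ e : Module.Basis (κ ⊕ Unit) K[X] (Ω[K[X]⁄k]),
      (∀ j, e (Sum.inl j) = kd cHom (b j)) ∧ e (Sum.inr ()) = D k K[X] X := by
  classical
  let e : κ ⊕ Unit → Ω[K[X]⁄k] := Sum.elim (fun j => kd cHom (b j)) (fun _ => D k K[X] X)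
  let δ : κ → Derivation k K[X] K[X] := fun j =>
    (PolynomialModule.equivPolynomialSelf (R := K)).toLinearMap.compDer
      ((b.coord j).compDer (D k K)).mapCoeffs
  let δX : Derivation k K[X] K[X] := (Polynomial.derivative' (R := K)).restrictScalars k
  let φ : κ ⊕ Unit → (Ω[K[X]⁄k] →ₗ[K[X]] K[X]) :=
    Sum.elim (fun j => (δ j).liftKaehlerDifferential) (fun _ => δX.liftKaehlerDifferential)
  have h1 : ∀ (j : κ) (a : K), φ (Sum.inl j) (D k K[X] (C a)) = C (b.coord j (D k K a)) := fun j a => by
    show (δ j).liftKaehlerDifferential _ = _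
    rw [Derivation.liftKaehlerDifferential_comp_D]
    show PolynomialModule.equivPolynomialSelf (((b.coord j).compDer (D k K)).mapCoeffs (C a)) = _
    refine Polynomial.ext fun n => ?_
    rw [PolynomialModule.equivPolynomialSelf_apply_eq, Polynomial.coeff_C]
    simp [PolynomialModule.equivPolynomial, Polynomial.coeff_C, apply_ite]
    split_ifs <;> simp_all
  have h2 : ∀ j : κ, φ (Sum.inl j) (D k K[X] X) = 0 := fun j => by
    show (δ j).liftKaehlerDifferential _ = _
    rw [Derivation.liftKaehlerDifferential_comp_D]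
    show PolynomialModule.equivPolynomialSelf (((b.coord j).compDer (D k K)).mapCoeffs X) = 0
    rw [Derivation.mapCoeffs_X, map_zero]
  have h3 : ∀ a : K, φ (Sum.inr ()) (D k K[X] (C a)) = 0 := fun a => by
    show δX.liftKaehlerDifferential _ = _
    rw [Derivation.liftKaehlerDifferential_comp_D]
    exact Polynomial.derivative_C
  have h4 : φ (Sum.inr ()) (D k K[X] X) = 1 := by
    show δX.liftKaehlerDifferential _ = _
    rw [Derivation.liftKaehlerDifferential_comp_D]
    exact Polynomial.derivative_X
  have hC : ∀ a : K, D k K[X] (C a) = kd cHom (D k K a) := fun a => (kd_D cHom a).symm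
  have hφ : ∀ i j, φ i (e j) = if j = i then 1 else 0 := by
    rintro (i | ⟨⟩) (j | ⟨⟩)
    · have : ∀ w : Ω[K⁄k], φ (Sum.inl i) (kd cHom w) = C (b.coord i w) := fun w => by
        induction (span_range_derivation k K).ge (Submodule.mem_top (x := w)) using
          Submodule.span_induction with
        | mem y hy => obtain ⟨a, rfl⟩ := hy; rw [← hC, h1]
        | zero => simp only [map_zero]
        | add y z _ _ hy hz => simp only [map_add, hy, hz]
        | smul a y _ hy => rw [kd_smul, map_smul, map_smul, hy, smul_eq_mul, smul_eq_mul, map_mul]; rfl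
      show φ _ (kd cHom (b j)) = _
      rw [this]
      by_cases h : j = i <;> simp [h, Finsupp.single_apply]
    · simpa [e] using h2 i
    · have : ∀ w : Ω[K⁄k], φ (Sum.inr ()) (kd cHom w) = 0 := fun w => by
        induction (span_range_derivation k K).ge (Submodule.mem_top (x := w)) using
          Submodule.span_induction with
        | mem y hy => obtain ⟨a, rfl⟩ := hy; rw [← hC, h3]
        | zero => simp only [map_zero]
        | add y z _ _ hy hz => simp only [map_add, hy, hz, add_zero]
        | smul a y _ hy => rw [kd_smul, map_smul, hy, smul_zero]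
      simpa [e] using this (b j)
    · simpa [e] using h4
  have hli : LinearIndependent K[X] e := linearIndependent_iff.2 fun l hl => Finsupp.ext fun i => by
    have := congrArg (φ i) hl
    rw [map_zero, Finsupp.linearCombination_apply, map_finsuppSum, Finsupp.sum,
      Finset.sum_eq_single i] at this
    · simpa [hφ] using this
    · intro j _ hj; simp [hφ, hj]
    · intro hi; simp [Finsupp.notMem_support_iff.1 hi]
  have hsp : ⊤ ≤ Submodule.span K[X] (Set.range e) := by
    have hc : ∀ w : Ω[K⁄k], kd cHom w ∈ Submodule.span K[X] (Set.range e) := fun w => by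
      rw [map_eq_sum_repr cHom (kd cHom) (kd_smul cHom) b w]
      exact Submodule.sum_mem _ fun j _ =>
        Submodule.smul_mem _ _ (Submodule.subset_span ⟨Sum.inl j, rfl⟩)
    rw [← span_range_derivation k K[X], Submodule.span_le]
    rintro _ ⟨p, rfl⟩
    induction p using Polynomial.induction_on with
    | C a => rw [hC]; exact hc _
    | add p q hp hq => rw [map_add]; exact Submodule.add_mem _ hp hq
    | monomial n a hp =>
      rw [pow_succ, ← mul_assoc, Derivation.leibniz]
      exact Submodule.add_mem _ (Submodule.smul_mem _ _ (Submodule.subset_span ⟨Sum.inr (), rfl⟩))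
        (Submodule.smul_mem _ _ hp)
  exact ⟨Module.Basis.mk hli hsp, fun j => Module.Basis.mk_apply hli hsp _,
    Module.Basis.mk_apply hli hsp _⟩

/-- The coordinate at infinity of the line, as a rational function. -/
def invX (K : Type u) [Field K] : Kx K := (algebraMap K[X] (Kx K) X)⁻¹

/-- Substitution of the inverse coordinate. -/
def invHom : K[X] →ₐ[k] Kx K := (Polynomial.aeval (invX K) : K[X] →ₐ[K] Kx K).restrictScalars k

theorem aeval_algX (p : K[X]) : aeval (algebraMap K[X] (Kx K) X) p = algebraMap K[X] (Kx K) p := by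
  rw [Polynomial.aeval_algebraMap_apply, Polynomial.aeval_X_left_apply]

theorem algX_ne_zero : algebraMap K[X] (Kx K) X ≠ 0 :=
  (map_ne_zero_iff _ (IsFractionRing.injective K[X] (Kx K))).2 Polynomial.X_ne_zero

theorem invHom_mul_pow (p : K[X]) :
    invHom (k := k) p * algebraMap K[X] (Kx K) X ^ p.natDegree = algebraMap K[X] (Kx K) p.reverse := by
  let : Invertible (invX K) :=
    ⟨algebraMap K[X] (Kx K) X, mul_inv_cancel₀ algX_ne_zero, inv_mul_cancel₀ algX_ne_zero⟩
  have h := Polynomial.eval₂_reverse_mul_pow (algebraMap K (Kx K)) (invX K) p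
  rw [show ⅟(invX K) = algebraMap K[X] (Kx K) X from rfl] at h
  change aeval (algebraMap K[X] (Kx K) X) p.reverse * invX K ^ p.natDegree = invHom (k := k) p at h
  rw [aeval_algX] at h
  rw [← h, mul_assoc, ← mul_pow, invX, inv_mul_cancel₀ algX_ne_zero, one_pow, mul_one]

theorem invHom_injective : Function.Injective (invHom (k := k) (K := K)) := by
  rw [injective_iff_map_eq_zero]
  intro p hp
  have := invHom_mul_pow (k := k) p
  rw [hp, zero_mul, eq_comm, map_eq_zero_iff _ (IsFractionRing.injective K[X] (Kx K))] at this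
  exact Polynomial.reverse_eq_zero.1 this

/-- The involution exchanging the two ends of the line. -/
def flipHom : Kx K →ₐ[k] Kx K := IsFractionRing.liftAlgHom (invHom_injective (k := k) (K := K))

theorem flipHom_toKx : (flipHom (k := k) (K := K)).comp toKx = invHom :=
  AlgHom.ext fun p => by simp [flipHom, toKx]

theorem invHom_cHom : (invHom (k := k) (K := K)).comp cHom = toKx.comp cHom :=
  AlgHom.ext fun a => by simp [invHom, cHom, toKx, IsScalarTower.algebraMap_apply K K[X] (Kx K)]

theorem eq_C_of_invHom {p q : K[X]} {n : ℕ}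
    (h : algebraMap K[X] (Kx K) q = invHom (k := k) p * (-(invX K ^ 2)) ^ n) :
    p = 0 ∨ n = 0 ∧ p = C (p.coeff 0) := by
  by_cases hp : p = 0
  · exact Or.inl hp
  refine Or.inr ?_
  have key : p.reverse = ((-1) ^ n * q) * X ^ (2 * n + p.natDegree) := by
    apply IsFractionRing.injective K[X] (Kx K)
    have h1 : algebraMap K[X] (Kx K) X ^ 2 * invX K ^ 2 = 1 := by
      rw [← mul_pow, invX, mul_inv_cancel₀ algX_ne_zero, one_pow]
    simp only [map_mul, map_pow, map_neg, map_one, h, ← invHom_mul_pow (k := k) p]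
    have : (-1 : Kx K) ^ n * (-(invX K ^ 2)) ^ n * algebraMap K[X] (Kx K) X ^ (2 * n) = 1 := by
      rw [← mul_pow, pow_mul, ← mul_pow, neg_one_mul, neg_neg, mul_comm, h1, one_pow]
    linear_combination -(invHom (k := k) p * algebraMap K[X] (Kx K) X ^ p.natDegree) * this
  have h0 : 2 * n + p.natDegree = 0 := by
    by_contra hne
    have := congrArg (Polynomial.coeff · 0) key
    rw [Polynomial.coeff_zero_reverse, Polynomial.mul_coeff_zero, Polynomial.coeff_X_pow,
      if_neg (Ne.symm hne), mul_zero] at this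
    exact hp (Polynomial.leadingCoeff_eq_zero.1 this)
  exact ⟨by omega, Polynomial.eq_C_of_natDegree_eq_zero (by omega)⟩

variable (P : Ideal K[X]) [P.IsPrime]

/-- Into a local ring of the line. -/
def locIn : K[X] →ₐ[k] Localization.AtPrime P := IsScalarTower.toAlgHom k K[X] _

/-- From a local ring of the line to rational functions. -/
def locOut : Localization.AtPrime P →ₐ[k] Kx K :=
  IsLocalization.liftAlgHom (M := P.primeCompl) (f := toKx) fun s =>
    (map_ne_zero_iff _ toKx_injective).2 (fun h => s.2 (by rw [h]; exact P.zero_mem)) |>.isUnit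

theorem locOut_locIn : (locOut (k := k) P).comp (locIn P) = toKx :=
  AlgHom.ext fun p => by simp [locOut, locIn]

theorem locOut_injective : Function.Injective (locOut (k := k) P) := by
  have h := IsLocalization.lift_injective_iff (M := P.primeCompl) (S := Localization.AtPrime P)
    (g := (toKx (k := k) (K := K)).toRingHom) (fun s =>
    (map_ne_zero_iff _ toKx_injective).2 (fun h => s.2 (by rw [h]; exact P.zero_mem)) |>.isUnit)
  refine h.2 fun x y => ?_
  rw [(IsLocalization.injective (Localization.AtPrime P) P.primeCompl_le_nonZeroDivisors).eq_iff]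
  exact toKx_injective.eq_iff.symm

omit P in
theorem exists_eq_toKx {c : Kx K}
    (h : ∀ (P : Ideal K[X]) [P.IsPrime], c ∈ Set.range (locOut (k := k) P)) :
    ∃ q, toKx (k := k) q = c := by
  let I : Ideal K[X] :=
    { carrier := {a | ∃ q, toKx (k := k) q = toKx (k := k) a * c}
      zero_mem' := ⟨0, by simp⟩
      add_mem' := fun {a b} ⟨p, hp⟩ ⟨q, hq⟩ => ⟨p + q, by rw [map_add, map_add, hp, hq, add_mul]⟩
      smul_mem' := fun r a ⟨p, hp⟩ => ⟨r * p, by rw [smul_eq_mul, map_mul, map_mul, hp, mul_assoc]⟩ }
  suffices I = ⊤ by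
    obtain ⟨q, hq⟩ := (I.eq_top_iff_one.1 this : ∃ q, toKx (k := k) q = toKx (k := k) 1 * c)
    exact ⟨q, by rw [hq, map_one, one_mul]⟩
  by_contra hI
  obtain ⟨P, hP, hIP⟩ := I.exists_le_maximal hI
  obtain ⟨z, hz⟩ := h P
  obtain ⟨a, ⟨s, hs⟩, rfl⟩ := IsLocalization.exists_mk'_eq P.primeCompl z
  refine hs (hIP ⟨a, ?_⟩)
  have := congrArg (locOut (k := k) P) (IsLocalization.mk'_spec (Localization.AtPrime P) a ⟨s, hs⟩)
  rw [map_mul, hz] at this
  rw [mul_comm]
  refine Eq.trans ?_ (this.symm.trans ?_)
  · exact (AlgHom.congr_fun (locOut_locIn P) a).symm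
  · exact congrArg (c * ·) (AlgHom.congr_fun (locOut_locIn P) s)

variable {ι : Type} [Finite ι]

omit P in
theorem exists_const {θ θ' : T k ι (Kx K)} (hflip : θ' = tmap flipHom θ)
    (h : ∀ (P : Ideal K[X]) [P.IsPrime], θ ∈ Set.range (tmap (ι := ι) (locOut (k := k) P)))
    (h' : ∀ (P : Ideal K[X]) [P.IsPrime], θ' ∈ Set.range (tmap (ι := ι) (locOut (k := k) P))) :
    ∃ τ : T k ι K, θ = tmap (toKx.comp cHom) τ ∧ θ' = tmap (toKx.comp cHom) τ := by
  classical
  have := Fintype.ofFinite ι
  let b := Module.Free.chooseBasis K (Ω[K⁄k])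
  obtain ⟨e, hel, her⟩ := exists_lineBasis b
  obtain ⟨f, hf⟩ := exists_basis_of_isLocalization (nonZeroDivisors K[X]) (toKx (k := k))
    (by
      have h : (toKx (k := k) (K := K)).toRingHom.toAlgebra = (inferInstance : Algebra K[X] (Kx K)) :=
        Algebra.algebra_ext _ _ fun _ => rfl
      rw [h]; infer_instance) e
  have hP : ∀ θ : T k ι (Kx K), (∀ (P : Ideal K[X]) [P.IsPrime],
      θ ∈ Set.range (tmap (ι := ι) (locOut (k := k) P))) →
      ∀ p, ∃ q, toKx (k := k) q = (tBasis f).repr θ p := by
    intro θ h p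
    refine exists_eq_toKx fun P _ => ?_
    obtain ⟨z, rfl⟩ := h P
    obtain ⟨g, hg⟩ := exists_basis_of_isLocalization P.primeCompl (locIn (k := k) P)
      (by
        have h : (locIn (k := k) P).toRingHom.toAlgebra =
            (inferInstance : Algebra K[X] (Localization.AtPrime P)) :=
          Algebra.algebra_ext _ _ fun _ => rfl
        rw [h]; infer_instance) e
    refine ⟨(tBasis g).repr z p, (repr_tmap _ g f (fun j => ?_) z p).symm⟩
    rw [← hg, kd_comp_apply, locOut_locIn, hf]
  choose q hq using hP θ h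
  let y : T k ι K[X] := ∑ p ∈ ((tBasis f).repr θ).support, q p • tBasis e p
  have hy : tmap toKx y = θ := by
    conv_rhs => rw [← (tBasis f).linearCombination_repr θ, Finsupp.linearCombination_apply]
    simp only [y, map_sum, tmap_smul, tmap_tBasis toKx e f hf, hq]
    rfl
  have hye : ∀ p, toKx (k := k) ((tBasis e).repr y p) = (tBasis f).repr θ p := fun p => by
    rw [← repr_tmap toKx e f hf, hy]
  let g : Module.Free.ChooseBasisIndex K (Ω[K⁄k]) ⊕ Unit → Kx K :=
    Sum.elim (fun _ => 1) (fun _ => -(invX K ^ 2))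
  have hgf : ∀ j, kd (flipHom (k := k)) (f j) = g j • f j := by
    rintro (j | ⟨⟩)
    · rw [← hf, hel, kd_comp_apply, kd_comp_apply, kd_comp_apply, AlgHom.comp_assoc, ← AlgHom.comp_assoc,
        flipHom_toKx, invHom_cHom]
      exact (one_smul _ _).symm
    · rw [← hf, her, kd_comp_apply, flipHom_toKx, kd_D, kd_D]
      show D k (Kx K) (aeval (invX K) X) = -(invX K ^ 2) • D k (Kx K) (algebraMap K[X] (Kx K) X)
      rw [aeval_X, invX, Derivation.leibniz_inv]
  let d : (ι → Module.Free.ChooseBasisIndex K (Ω[K⁄k]) ⊕ Unit) → ℕ :=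
    fun p => ∑ j, Sum.elim (fun _ => 0) (fun _ => 1) (p j)
  have hd : ∀ p : ι → Module.Free.ChooseBasisIndex K (Ω[K⁄k]) ⊕ Unit,
      ∏ j, g (p j) = (-(invX K ^ 2)) ^ d p := fun p => by
    rw [← Finset.prod_pow_eq_pow_sum]
    refine Finset.prod_congr rfl fun j _ => ?_
    rcases p j with a | a <;> simp [g]
  have hw : ∀ p, tmap (flipHom (k := k)) (tBasis f p) = (∏ j, g (p j)) • tBasis f p := fun p => by
    simp only [tBasis_apply, tmap_tprod, hgf]
    exact (PiTensorProduct.tprod (Kx K) : MultilinearMap (Kx K) (fun _ : ι => Ω[Kx K⁄k]) (T k ι (Kx K))).map_smul_univ (fun j => g (p j)) (fun j => f (p j))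
  have hconst : ∀ p ∈ ((tBasis e).repr y).support,
      (∀ j, ∃ a, p j = Sum.inl a) ∧ (tBasis e).repr y p = C (((tBasis e).repr y p).coeff 0) := by
    intro p hp
    obtain ⟨q', hq'⟩ := hP θ' h' p
    rw [hflip, repr_map flipHom _ (tmap_smul flipHom) (tBasis f) (tBasis f) _ hw, hd, ← hye,
      ← AlgHom.comp_apply, flipHom_toKx] at hq'
    rcases eq_C_of_invHom hq' with h0 | ⟨hn, hc⟩
    · exact absurd h0 (Finsupp.mem_support_iff.1 hp)
    · refine ⟨fun j => ?_, hc⟩
      have := Finset.sum_eq_zero_iff.1 hn j (Finset.mem_univ j)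
      rcases hpj : p j with a | a
      · exact ⟨a, rfl⟩
      · simp [hpj] at this
  let χ : K[X] →ₐ[k] K[X] := cHom.comp (evHom 0)
  have hχ : tmap χ y = y := by
    conv_rhs => rw [← (tBasis e).linearCombination_repr y, Finsupp.linearCombination_apply]
    rw [map_eq_sum_repr χ (tmap χ) (tmap_smul χ) (tBasis e) y]
    refine Finsupp.sum_congr fun p hp => ?_
    obtain ⟨hl, hc⟩ := hconst p hp
    have h1 : χ ((tBasis e).repr y p) = (tBasis e).repr y p := by
      rw [hc]; simp [χ, cHom, evHom]
    have h2 : tmap χ (tBasis e p) = tBasis e p := by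
      rw [tBasis_apply, tmap_tprod]
      refine congrArg _ (funext fun j => ?_)
      obtain ⟨a, ha⟩ := hl j
      rw [ha, hel, kd_comp_apply, AlgHom.comp_assoc, evHom_cHom, AlgHom.comp_id]
    rw [h1, h2]
  refine ⟨tmap (evHom 0) y, ?_, ?_⟩
  · rw [tmap_comp_apply, AlgHom.comp_assoc, ← tmap_comp_apply χ toKx, hχ, hy]
  · rw [hflip, ← hy, tmap_comp_apply, tmap_comp_apply, flipHom_toKx]
    conv_lhs => rw [← hχ]
    rw [tmap_comp_apply, ← AlgHom.comp_assoc, invHom_cHom]

/-- The value at a rational point of a form which is constant at the generic point. -/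
theorem tmap_loc_eq {τ : T k ι K} {z : T k ι (Localization.AtPrime P)}
    (hz : tmap (locOut P) z = tmap (toKx.comp cHom) τ) : z = tmap ((locIn P).comp cHom) τ := by
  let b := Module.Free.chooseBasis K (Ω[K⁄k])
  obtain ⟨e, -, -⟩ := exists_lineBasis b
  obtain ⟨g, hg⟩ := exists_basis_of_isLocalization P.primeCompl (locIn (k := k) P)
    (by
      have h : (locIn (k := k) P).toRingHom.toAlgebra =
          (inferInstance : Algebra K[X] (Localization.AtPrime P)) :=
        Algebra.algebra_ext _ _ fun _ => rfl
      rw [h]; infer_instance) e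
  obtain ⟨f, hf⟩ := exists_basis_of_isLocalization (nonZeroDivisors K[X]) (toKx (k := k))
    (by
      have h : (toKx (k := k) (K := K)).toRingHom.toAlgebra = (inferInstance : Algebra K[X] (Kx K)) :=
        Algebra.algebra_ext _ _ fun _ => rfl
      rw [h]; infer_instance) e
  refine tmap_injective (locOut P) (locOut_injective P) g f (fun j => ?_) ?_
  · rw [← hg, kd_comp_apply, locOut_locIn, hf]
  · rw [hz, tmap_comp_apply, ← AlgHom.comp_assoc, locOut_locIn]

end Groth.Agent.ReqForms45
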