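import Groth.Agent.ReqForms45.Alg
import Groth.Agent.ReqForms45.Points
import Groth.Agent.DRHyp.Terms
import Groth.Agent.QCoh.TensorSections
import Groth.Agent.QCoh.VanIdeal

/-!
# Sections of tensor powers of exterior powers of differentials as tensor forms
-/

set_option autoImplicit false
set_option linter.style.haveILetI false

universe u

open CategoryTheory AlgebraicGeometry Opposite TopologicalSpace TensorProduct

noncomputable section

namespace Groth.Agent.ReqForms45

variable {k : Type u} [CommRing k] {X : Scheme.{u}} (f : X ⟶ Spec (CommRingCat.of k))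

/-- Sections of a module, over the functions as an algebra. -/
def SMod (_f : X ⟶ Spec (CommRingCat.of k)) (M : X.Modules) (V : X.Opens) : Type u := Γ(M, V)

instance (M : X.Modules) (V : X.Opens) : AddCommGroup (SMod f M V) :=
  (inferInstance : AddCommGroup Γ(M, V))

instance (M : X.Modules) (V : X.Opens) : Module (Sec f V) (SMod f M V) :=
  (inferInstance : Module Γ(X, V) Γ(M, V))

/-- Restriction of sections. -/
def sRes (M : X.Modules) {V W : X.Opens} (h : W ≤ V) : SMod f M V →+ SMod f M W :=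
  (M.presheaf.map (homOfLE h).op).hom

theorem sRes_smul (M : X.Modules) {V W : X.Opens} (h : W ≤ V) (a : Sec f V) (s : SMod f M V) :
    sRes f M h (a • s) = secRes f h a • sRes f M h s :=
  M.map_smul (homOfLE h) a s

/-- A natural map from the sections of a module over the affine opens to tensor forms, injective
and with free source wherever the differentials are free. -/
def IsRealized (M : X.Modules) (ι : Type) : Prop :=
  ∃ φ : ∀ V : X.affineOpens, SMod f M V.1 →ₗ[Sec f V.1] T k ι (Sec f V.1),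
    (∀ (V W : X.affineOpens) (h : W.1 ≤ V.1) (s : SMod f M V.1),
      tmap (secRes f h) (φ V s) = φ W (sRes f M h s)) ∧
    ∀ V : X.affineOpens, Module.Free (Sec f V.1) (Ω[Sec f V.1⁄k]) →
      Function.Injective (φ V) ∧ Module.Free (Sec f V.1) (SMod f M V.1)

/-- Sections of the unit module are functions. -/
def unitSec (V : X.Opens) : SMod f (Coh.structureModule X) V ≃ₗ[Sec f V] Sec f V where
  toFun s := s
  invFun s := s
  left_inv _ := rfl
  right_inv _ := rfl
  map_add' _ _ := rfl
  map_smul' _ _ := rfl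

theorem unitSec_res {V W : X.Opens} (h : W ≤ V) (s : SMod f (Coh.structureModule X) V) :
    unitSec f W (sRes f (Coh.structureModule X) h s) = secRes f h (unitSec f V s) := rfl

/-- The unit module is realized by the empty tensor power. -/
theorem isRealized_unit (ι : Type) [IsEmpty ι] : IsRealized f (Coh.structureModule X) ι := by
  refine ⟨fun V => (((unitSec f V.1).trans (PiTensorProduct.isEmptyEquiv (R := Sec f V.1) ι
      (s := fun _ => Ω[Sec f V.1⁄k])).symm)).toLinearMap,
    fun V W h s => ?_, fun V _ => ⟨LinearEquiv.injective _,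
      Module.Free.of_equiv (unitSec f V.1).symm⟩⟩
  show tmap (secRes f h) (unitSec f V.1 s • PiTensorProduct.tprod (Sec f V.1) (isEmptyElim : ι → Ω[Sec f V.1⁄k])) =
      unitSec f W.1 (sRes f _ h s) • PiTensorProduct.tprod (Sec f W.1) (isEmptyElim : ι → Ω[Sec f W.1⁄k])
  rw [tmap_smul, tmap_tprod, unitSec_res]
  congr 2
  exact funext fun j => isEmptyElim j

variable {f} {ι ι' : Type}

/-- Sections of a tensor product over an affine open. -/
def tensorSecEquiv {M N : X.Modules} (hM : Coh.IsQCoh M) (hN : Coh.IsQCoh N) (V : X.affineOpens) :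
    SMod f M V.1 ⊗[Sec f V.1] SMod f N V.1 ≃ₗ[Sec f V.1] SMod f (CohB1.tensorMod M N) V.1 :=
  LinearEquiv.ofBijective (QCoh.tmLin M N V.1 :
      SMod f M V.1 ⊗[Sec f V.1] SMod f N V.1 →ₗ[Sec f V.1] SMod f (CohB1.tensorMod M N) V.1)
    (QCoh.bijective_tmLin hM hN V.2)

theorem sRes_tensorSecEquiv {M N : X.Modules} (hM : Coh.IsQCoh M) (hN : Coh.IsQCoh N)
    {V W : X.affineOpens} (h : W.1 ≤ V.1) (s : SMod f M V.1) (t : SMod f N V.1) :
    sRes f (CohB1.tensorMod M N) h (tensorSecEquiv hM hN V (s ⊗ₜ[Sec f V.1] t)) =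
      tensorSecEquiv hM hN W (sRes f M h s ⊗ₜ[Sec f W.1] sRes f N h t) :=
  QCoh.map_tmS M N (homOfLE h) s t

/-- A tensor product of realized modules is realized. -/
theorem IsRealized.tensor {M N : X.Modules} [Finite ι] [Finite ι'] (hM : Coh.IsQCoh M) (hN : Coh.IsQCoh N)
    (h₁ : IsRealized f M ι) (h₂ : IsRealized f N ι') :
    IsRealized f (CohB1.tensorMod M N) (ι ⊕ ι') := by
  obtain ⟨φ, hφ, hφi⟩ := h₁
  obtain ⟨ψ, hψ, hψi⟩ := h₂
  refine ⟨fun V => tcat.toLinearMap ∘ₗ TensorProduct.map (φ V) (ψ V) ∘ₗ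
    (tensorSecEquiv hM hN V).symm.toLinearMap, fun V W h s => ?_, fun V hV => ?_⟩
  · obtain ⟨z, rfl⟩ := (tensorSecEquiv hM hN V).surjective s
    induction z using TensorProduct.induction_on with
    | zero => simp only [map_zero]
    | add y z hy hz => simp only [map_add, hy, hz]
    | tmul s t =>
      rw [sRes_tensorSecEquiv hM hN h]
      simp only [LinearMap.comp_apply, LinearEquiv.coe_coe, LinearEquiv.symm_apply_apply,
        TensorProduct.map_tmul, tmap_tcat, hφ V W h, hψ V W h]
  · obtain ⟨h1, h1'⟩ := hφi V hV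
    obtain ⟨h2, h2'⟩ := hψi V hV
    have : Module.Free (Sec f V.1) (T k ι' (Sec f V.1)) :=
      Module.Free.of_basis (tBasis (Module.Free.chooseBasis (Sec f V.1) (Ω[Sec f V.1⁄k])))
    refine ⟨?_, Module.Free.of_equiv (tensorSecEquiv hM hN V)⟩
    simp only [LinearMap.coe_comp, LinearEquiv.coe_coe]
    exact tcat.injective.comp ((tensor_map_injective (φ V) (ψ V) h1 h2).comp
      (tensorSecEquiv hM hN V).symm.injective)

variable [QuasiSeparated f]

/-- Sections of the sheaf of differentials over an affine open. -/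
def omSecEquiv (V : X.affineOpens) :
    Ω[Sec f V.1⁄k] ≃ₗ[Sec f V.1] SMod f (Omega.sheaf f) V.1 :=
  DRHyp.omegaEquiv f V.2

theorem omSecEquiv_kd {V W : X.affineOpens} (h : W.1 ≤ V.1) (w : Ω[Sec f V.1⁄k]) :
    omSecEquiv W (kd (secRes f h) w) = sRes f (Omega.sheaf f) h (omSecEquiv V w) := by
  induction (KaehlerDifferential.span_range_derivation k (Sec f V.1)).ge (Submodule.mem_top (x := w))
    using Submodule.span_induction with
  | mem y hy =>
    obtain ⟨b, rfl⟩ := hy
    rw [kd_D]
    exact ((DRHyp.toOmega_D f W.1 _).trans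
      (Synt29.OmegaStalk.app_res _ (OmegaSh.dOmega f) (homOfLE h) b)).trans
      (congrArg (sRes f (Omega.sheaf f) h) (DRHyp.toOmega_D f V.1 b).symm)
  | zero => simp only [map_zero]
  | add a b _ _ ha hb => simp only [map_add, ha, hb]
  | smul r a _ ha => rw [kd_smul, map_smul, map_smul, ha, sRes_smul]

theorem extPow_sec {i : ℕ} {E L : X.Modules} (hL : ExtPow.IsExtPow i E L) :
    ∃ φ : ∀ V : X.affineOpens,
        SMod f L V.1 ≃ₗ[Sec f V.1] ↥(⋀[Sec f V.1]^i (SMod f E V.1)),
      ∀ (V W : X.affineOpens) (h : W.1 ≤ V.1) (v : Fin i → SMod f E V.1),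
        sRes f L h ((φ V).symm (exteriorPower.ιMulti (Sec f V.1) i v)) =
          (φ W).symm (exteriorPower.ιMulti (Sec f W.1) i (fun j => sRes f E h (v j))) := by
  obtain ⟨φ, hφ⟩ := hL
  refine ⟨fun V => ?_, fun V W h v => ?_⟩
  · let eU : Γ(L, V.1) ≃ₗ[Γ(X, V.1)] ↥(⋀[Γ(X, V.1)]^i Γ(E, V.1)) := φ V
    exact eU
  · exact hφ V W h v

theorem extMapEquiv_symm_ιMulti {A M N : Type u} [CommRing A] [AddCommGroup M] [Module A M]
    [AddCommGroup N] [Module A N] (p : ℕ) (e : M ≃ₗ[A] N) (v : Fin p → M) :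
    (DRHyp.extMapEquiv p e.symm).symm (exteriorPower.ιMulti A p v) =
      exteriorPower.ιMulti A p (fun j => e (v j)) := by
  rw [LinearEquiv.symm_apply_eq, DRHyp.extMapEquiv_ιMulti]
  simp only [LinearEquiv.symm_apply_apply]

theorem exists_formEquiv {i : ℕ} {L : X.Modules} (hL : ExtPow.IsExtPow i (Omega.sheaf f) L) :
    ∃ e : ∀ V : X.affineOpens, SMod f L V.1 ≃ₗ[Sec f V.1] ↥(⋀[Sec f V.1]^i (Ω[Sec f V.1⁄k])),
      ∀ (V W : X.affineOpens) (h : W.1 ≤ V.1) (v : Fin i → Ω[Sec f V.1⁄k]),
        sRes f L h ((e V).symm (exteriorPower.ιMulti (Sec f V.1) i v)) =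
          (e W).symm (exteriorPower.ιMulti (Sec f W.1) i (fun j => kd (secRes f h) (v j))) := by
  obtain ⟨φ, hφ⟩ := extPow_sec (f := f) hL
  refine ⟨fun V => (φ V).trans (DRHyp.extMapEquiv i (omSecEquiv V).symm), fun V W h v => ?_⟩
  rw [LinearEquiv.trans_symm, LinearEquiv.trans_apply, LinearEquiv.trans_symm, LinearEquiv.trans_apply,
    extMapEquiv_symm_ιMulti, extMapEquiv_symm_ιMulti, hφ V W h]
  simp only [omSecEquiv_kd h]

/-- An exterior power of the differentials is realized by the tensor power. -/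
theorem isRealized_extPow {i : ℕ} {L : X.Modules} (hL : ExtPow.IsExtPow i (Omega.sheaf f) L) :
    IsRealized f L (Fin i) := by
  obtain ⟨e, he⟩ := exists_formEquiv hL
  refine ⟨fun V => (exteriorPower.toTensorPower (Sec f V.1) (Ω[Sec f V.1⁄k]) i :
      ↥(⋀[Sec f V.1]^i (Ω[Sec f V.1⁄k])) →ₗ[Sec f V.1] T k (Fin i) (Sec f V.1)) ∘ₗ (e V).toLinearMap,
    fun V W h s => ?_, fun V hV => ⟨(toTensorPower_injective i).comp (e V).injective, ?_⟩⟩
  · obtain ⟨z, rfl⟩ := (e V).symm.surjective s
    simp only [LinearMap.comp_apply, LinearEquiv.coe_coe, LinearEquiv.apply_symm_apply]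
    have hz : z ∈ Submodule.span (Sec f V.1) (Set.range (exteriorPower.ιMulti (Sec f V.1) i
        (M := Ω[Sec f V.1⁄k]))) := by
      rw [exteriorPower.ιMulti_span]; trivial
    induction hz using Submodule.span_induction with
    | mem y hy =>
      obtain ⟨v, rfl⟩ := hy
      rw [tmap_toTensorPower, he V W h, LinearEquiv.apply_symm_apply]
    | zero => simp only [map_zero]
    | add a b _ _ ha hb => simp only [map_add, ha, hb]
    | smul r a _ ha => simp only [map_smul, tmap_smul, sRes_smul, ha]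
  · let b := Module.Free.chooseBasis (Sec f V.1) (Ω[Sec f V.1⁄k])
    classical
    let : LinearOrder (Module.Free.ChooseBasisIndex (Sec f V.1) (Ω[Sec f V.1⁄k])) :=
      linearOrderOfSTO WellOrderingRel
    have := Module.Free.of_basis (b.exteriorPower i)
    exact Module.Free.of_equiv (e V).symm

/-- The index type of a tensor power. -/
def Idx (i : ℕ) : ℕ → Type
  | 0 => Fin 0
  | m + 1 => Idx i m ⊕ Fin i

instance finite_idx (i : ℕ) : ∀ m, Finite (Idx i m)
  | 0 => inferInstanceAs (Finite (Fin 0))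
  | m + 1 => haveI := finite_idx i m; inferInstanceAs (Finite (Idx i m ⊕ Fin i))

theorem nonempty_idx {i : ℕ} (hi : 0 < i) : ∀ {m : ℕ}, 0 < m → Nonempty (Idx i m)
  | _ + 1, _ => ⟨(Sum.inr ⟨0, hi⟩ : Idx i _ ⊕ Fin i)⟩

/-- Tensor powers of an exterior power of the differentials are quasi-coherent and realized. -/
theorem isRealized_tensorPow {i : ℕ} {L : X.Modules} (hL : ExtPow.IsExtPow i (Omega.sheaf f) L) :
    ∀ m, Coh.IsQCoh (CohB1.tensorPow L m) ∧ IsRealized f (CohB1.tensorPow L m) (Idx i m) := by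
  have hqL : Coh.IsQCoh L := DRHyp.isQCoh_of_isExtPow
    (Synt29.OmegaStalk.isQCoh_of_isUniversal (OmegaUniv.isUniversal_dOmega f)) i hL
  intro m
  induction m with
  | zero =>
    exact ⟨QCoh.isQCoh_structureModule, @isRealized_unit _ _ _ f (Fin 0) _⟩
  | succ m ih => exact ⟨KFlatLib.isQCoh_tensor ih.1 hqL, ih.2.tensor ih.1 hqL (isRealized_extPow hL)⟩

end Groth.Agent.ReqForms45
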