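import Groth.Agent.ReqForms45.Points
import Groth.Agent.ReqForms45.Charts
import Groth.Agent.H23.RatExtend
import Mathlib.AlgebraicGeometry.FunctionField

/-!
# Tensor forms on a proper almost R-trivial variety
-/

set_option autoImplicit false
set_option linter.style.haveILetI false

universe u

open CategoryTheory AlgebraicGeometry Opposite Polynomial

noncomputable section

namespace Groth.Agent.ReqForms45

open H23

variable {k : Type u} [Field k] {X : Scheme.{u}} {f : X ⟶ Spec (CommRingCat.of k)} {ι : Type} [Finite ι]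
  {D : FormData f ι}

variable {K : Type u} [Field K] [Algebra k K]

/-- A morphism from the projective line takes the same value at all rational points. -/
theorem exists_line_value (g : REq.P1K K ⟶ X) (hg : g ≫ f = REq.P1K.toSpec K ≫ REq.specMap k K) :
    ∃ τ : T k ι K, ∀ a : Spec (CommRingCat.of K) ⟶ REq.P1K K,
      a ≫ REq.P1K.toSpec K = 𝟙 _ → Val D (a ≫ g) τ := by
  have hbase : ∀ {A : Type u} [CommRing A] [Algebra k A] (φ : K[X] →ₐ[k] A) (i : Fin (1 + 1)),
      (specA φ ≫ P1Charts.chart K i ≫ g) ≫ f = Spec.map (CommRingCat.ofHom (algebraMap k A)) := by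
    intro A _ _ φ i
    have h1 : P1Charts.chart K i ≫ g ≫ f = Spec.map (CommRingCat.ofHom (algebraMap k K[X])) := by
      rw [hg, ← Category.assoc]
      refine (congrArg (· ≫ REq.specMap k K) (P1Charts.chart_toBase K i)).trans ?_
      rw [REq.specMap, ← Spec.map_comp, ← CommRingCat.ofHom_comp]
    rw [Category.assoc, Category.assoc, h1, specA_base]
  obtain ⟨θ₀, h₀⟩ := exists_val D (specA (toKx (k := k)) ≫ P1Charts.chart K 0 ≫ g) (hbase toKx 0)
  obtain ⟨θ₁, h₁⟩ := exists_val D (specA (toKx (k := k)) ≫ P1Charts.chart K 1 ≫ g) (hbase toKx 1)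
  have hflip : θ₁ = tmap flipHom θ₀ := by
    refine h₁.unique ?_
    have e : specA (toKx (k := k) (K := K)) ≫ P1Charts.chart K 1 ≫ g =
        specA (flipHom (k := k)) ≫ specA (toKx (k := k)) ≫ P1Charts.chart K 0 ≫ g := by
      have := congrArg (· ≫ g) (flip_genChart (k := k) (K := K))
      simp only [genChart, Category.assoc] at this
      exact this.symm
    rw [e]
    exact h₀.comp flipHom
  have hloc : ∀ (i : Fin (1 + 1)) (θ : T k ι (Kx K)), Val D (specA (toKx (k := k)) ≫ P1Charts.chart K i ≫ g) θ →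
      ∀ (P : Ideal K[X]) [P.IsPrime], ∃ z, Val D (specA (locIn (k := k) P) ≫ P1Charts.chart K i ≫ g) z ∧
        tmap (locOut (k := k) P) z = θ := by
    intro i θ h P _
    obtain ⟨z, hz⟩ := exists_val D (specA (locIn (k := k) P) ≫ P1Charts.chart K i ≫ g) (hbase _ i)
    refine ⟨z, hz, Val.unique ?_ h⟩
    have e : specA (toKx (k := k)) = specA (locOut (k := k) P) ≫ specA (locIn (k := k) P) := by
      rw [← specA_comp, locOut_locIn]
    rw [e, Category.assoc]
    exact hz.comp (locOut P)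
  obtain ⟨τ, hτ₀, hτ₁⟩ := exists_const hflip
    (fun P _ => (hloc 0 θ₀ h₀ P).imp fun z hz => hz.2) (fun P _ => (hloc 1 θ₁ h₁ P).imp fun z hz => hz.2)
  refine ⟨τ, fun a ha => ?_⟩
  obtain ⟨i, y, hy⟩ := P1Charts.exists_chart K (a (IsLocalRing.closedPoint K))
  have hr : Set.range a ⊆ Set.range (P1Charts.chart K i) := by
    rintro _ ⟨p, rfl⟩
    rw [show p = IsLocalRing.closedPoint K from
      @Subsingleton.elim _ (inferInstanceAs (Subsingleton (PrimeSpectrum K))) _ _]
    exact ⟨y, hy⟩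
  let ψ₀ : CommRingCat.of K[X] ⟶ CommRingCat.of K :=
    Spec.preimage (IsOpenImmersion.lift (P1Charts.chart K i) a hr)
  have hψ : Spec.map ψ₀ ≫ P1Charts.chart K i = a := by
    rw [Spec.map_preimage]; exact IsOpenImmersion.lift_fac _ _ _
  have hC : CommRingCat.ofHom (Polynomial.C (R := K)) ≫ ψ₀ = 𝟙 _ := by
    apply Spec.map_injective
    rw [Spec.map_comp, Spec.map_id, ← P1Charts.chart_toBase K i, ← Category.assoc, hψ]
    exact ha
  let ψ : K[X] →ₐ[k] K :=
    { ψ₀.hom with
      commutes' := fun r => by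
        show ψ₀.hom (algebraMap k K[X] r) = _
        rw [IsScalarTower.algebraMap_apply k K K[X]]
        exact congr(($hC).hom (algebraMap k K r)) }
  let P : Ideal K[X] := RingHom.ker ψ
  have : P.IsPrime := RingHom.ker_isPrime ψ
  have hunit : ∀ s : P.primeCompl, IsUnit (ψ s) := fun s => (show ψ s ≠ 0 from s.2).isUnit
  let ψP : Localization.AtPrime P →ₐ[k] K :=
    IsLocalization.liftAlgHom (M := P.primeCompl) (f := ψ) hunit
  have hψP : ψP.comp (locIn P) = ψ := AlgHom.ext fun p => by simp [ψP, locIn]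
  obtain ⟨z, hz, hzθ⟩ := hloc i (tmap (toKx.comp cHom) τ) (by
    fin_cases i
    · rw [← hτ₀]; exact h₀
    · rw [← hτ₁]; exact h₁) P
  have hzτ := tmap_loc_eq P hzθ
  have hval := hz.comp ψP
  rw [hzτ, tmap_comp_apply, ← AlgHom.comp_assoc, hψP] at hval
  have hid : ψ.comp cHom = AlgHom.id k K :=
    AlgHom.ext fun r => congr(($hC).hom r)
  rw [hid, tmap_id, ← Category.assoc, ← specA_comp, hψP, ← Category.assoc] at hval
  rw [← hψ]
  exact hval

/-- Directly linked points have the same value. -/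
theorem exists_val_of_elemLink [IsProper f] {A B : REq.Pts f K} (h : REq.ElemLink f K A B) :
    ∃ τ : T k ι K, Val D A.1 τ ∧ Val D B.1 τ := by
  have : X.IsSeparated := by
    constructor
    rw [Limits.terminal.hom_ext (Limits.terminal.from X) (f ≫ Limits.terminal.from _)]
    infer_instance
  obtain ⟨U, h, a, b, hh, ha, hb, hA, hB⟩ := h
  let Q : Scheme.{u} := REq.P1K K
  have : IsIntegral Q := inferInstanceAs (IsIntegral (CohB1.ProjSpaceOver 1 (Spec (CommRingCat.of K))))
  have hag : genericPoint Q ∈ U := RatExtend.genericPoint_mem U (a (IsLocalRing.closedPoint K)).2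
  let sQ : Q ⟶ Spec (CommRingCat.of k) := REq.P1K.toSpec K ≫ REq.specMap k K
  let φQ : Spec (Q.presheaf.stalk (genericPoint Q)) ⟶ X := U.fromSpecStalkOfMem _ hag ≫ h
  have hφQ : φQ ≫ f = Q.fromSpecStalk _ ≫ sQ := by
    simp only [φQ, sQ, Category.assoc, hh]
    rw [Scheme.Opens.fromSpecStalkOfMem_ι_assoc]
  obtain ⟨W₀, hgW₀, H₀, hT₀, hH₀, hH₀'⟩ := RatExtend.extend sQ f φQ hφQ Set.univ (fun q _ =>
    RatExtend.exists_lift sQ f φQ hφQ q (RatExtend.valuationRing_stalk K q))
  obtain rfl : W₀ = ⊤ := top_le_iff.1 (fun q _ => hT₀ (Set.mem_univ q))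
  let g : Q ⟶ X := Q.topIso.inv ≫ H₀
  have hg : g ≫ f = sQ := by
    simp only [g, Category.assoc, hH₀]
    rw [← Scheme.topIso_hom, Iso.inv_hom_id_assoc]
  have hgh : U.ι ≫ g = h := by
    have := RatExtend.isDominant_fromSpecStalkOfMem U hag
    refine ext_of_isDominant (U.fromSpecStalkOfMem _ hag) ?_
    refine Eq.trans ?_ hH₀'
    rw [Scheme.Opens.fromSpecStalkOfMem_ι_assoc]
    simp only [g, ← Category.assoc]
    congr 1
    rw [Iso.comp_inv_eq, Scheme.topIso_hom, Scheme.Opens.fromSpecStalkOfMem_ι]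
  obtain ⟨τ, hτ⟩ := exists_line_value (D := D) g hg
  refine ⟨τ, ?_, ?_⟩
  · have := hτ (a ≫ U.ι) (by rw [Category.assoc]; exact ha)
    rwa [Category.assoc, hgh, hA] at this
  · have := hτ (b ≫ U.ι) (by rw [Category.assoc]; exact hb)
    rwa [Category.assoc, hgh, hB] at this

/-- R-equivalent points have the same value. -/
theorem val_of_rEquiv [IsProper f] {A B : REq.Pts f K} (h : REq.REquiv f K A B) (θ : T k ι K) :
    Val D A.1 θ ↔ Val D B.1 θ := by
  induction h generalizing θ with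
  | rel A B h =>
    obtain ⟨τ, hA, hB⟩ := exists_val_of_elemLink (D := D) h
    exact ⟨fun h' => h'.unique hA ▸ hB, fun h' => h'.unique hB ▸ hA⟩
  | refl A => exact Iff.rfl
  | symm A B _ ih => exact (ih θ).symm
  | trans A B C _ _ ih₁ ih₂ => exact (ih₁ θ).trans (ih₂ θ)

variable (D) in
/-- On a proper almost R-trivial variety the value at a generic point of a compatible family of
tensor forms is zero. -/
theorem val_eq_zero_of_generic [IsProper f] [IsIntegral X] [Nonempty ι] (hR : REq.IsAlmostRTrivial f)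
    (A : REq.Pts f K) (hgen : A.1 (IsLocalRing.closedPoint K) = genericPoint X) :
    Val D A.1 0 := by
  obtain ⟨U₀, hU₀, hU₀R⟩ := hR
  obtain ⟨⟨x₀, hx₀'⟩, -⟩ := hU₀R k
  obtain ⟨-, heq⟩ := hU₀R K
  have hx₀ : x₀.1 ≫ f = 𝟙 _ := by rw [x₀.2]; simp [REq.specMap]
  let B : REq.Pts f K := ⟨REq.specMap k K ≫ x₀.1, by
    simp only [Category.assoc, hx₀, Category.comp_id]⟩
  have hA : REq.InOpen f U₀ A := by
    rintro _ ⟨y, rfl⟩
    rw [show y = IsLocalRing.closedPoint K from
      @Subsingleton.elim _ (inferInstanceAs (Subsingleton (PrimeSpectrum K))) _ _, hgen]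
    exact RatExtend.genericPoint_mem U₀ hU₀.nonempty.choose_spec
  have hB : REq.InOpen f U₀ B := by
    rintro _ ⟨y, rfl⟩
    exact hx₀' ⟨_, rfl⟩
  obtain ⟨θ, hθ⟩ := exists_val D x₀.1 x₀.2
  have h2 := hθ.comp (Algebra.ofId k K)
  have h0 : θ = 0 := @Subsingleton.elim _ subsingleton_self _ _
  rw [h0, map_zero] at h2
  exact (val_of_rEquiv (D := D) (heq A B hA hB) 0).2 h2

end Groth.Agent.ReqForms45
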