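import Mathlib.RingTheory.Kaehler.Basic
import Mathlib.RingTheory.Etale.Kaehler
import Mathlib.LinearAlgebra.PiTensorProduct.Basis
import Mathlib.RingTheory.Localization.Module

/-!
# Tensor powers of Kähler differentials, functorially in the algebra
-/

set_option autoImplicit false
set_option linter.style.haveILetI false

universe u

open TensorProduct KaehlerDifferential

noncomputable section

namespace Groth.Agent.ReqForms45

variable (k : Type u) [CommRing k] (ι : Type)

/-- The tensor power, indexed by `ι`, of the Kähler differentials. -/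
abbrev T (A : Type u) [CommRing A] [Algebra k A] : Type u := ⨂[A] (_ : ι), Ω[A⁄k]

variable {k ι} {A B C : Type u} [CommRing A] [Algebra k A] [CommRing B] [Algebra k B]
  [CommRing C] [Algebra k C]

/-- The map on differentials induced by an algebra map. -/
def kd (φ : A →ₐ[k] B) : Ω[A⁄k] →+ Ω[B⁄k] :=
  letI := φ.toRingHom.toAlgebra
  haveI : IsScalarTower k A B := .of_algebraMap_eq fun r => (φ.commutes r).symm
  (KaehlerDifferential.map k k A B).toAddMonoidHom

@[simp] theorem kd_D (φ : A →ₐ[k] B) (a : A) : kd φ (D k A a) = D k B (φ a) := by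
  letI := φ.toRingHom.toAlgebra
  haveI : IsScalarTower k A B := .of_algebraMap_eq fun r => (φ.commutes r).symm
  exact KaehlerDifferential.map_D k k A B a

@[simp] theorem kd_smul (φ : A →ₐ[k] B) (a : A) (x : Ω[A⁄k]) : kd φ (a • x) = φ a • kd φ x := by
  letI := φ.toRingHom.toAlgebra
  haveI : IsScalarTower k A B := .of_algebraMap_eq fun r => (φ.commutes r).symm
  exact ((KaehlerDifferential.map k k A B).map_smul a x).trans (algebraMap_smul B a _).symm

theorem kd_ext {F G : Ω[A⁄k] →+ Ω[B⁄k]} (φ : A →ₐ[k] B) (hF : ∀ a x, F (a • x) = φ a • F x)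
    (hG : ∀ a x, G (a • x) = φ a • G x) (h : ∀ a, F (D k A a) = G (D k A a)) : F = G := by
  refine AddMonoidHom.ext fun x => ?_
  induction (span_range_derivation k A).ge (Submodule.mem_top (x := x)) using Submodule.span_induction with
  | mem y hy => obtain ⟨a, rfl⟩ := hy; exact h a
  | zero => simp
  | add y z _ _ hy hz => simp [hy, hz]
  | smul a y _ hy => rw [hF, hG, hy]

theorem kd_comp (φ : A →ₐ[k] B) (ψ : B →ₐ[k] C) : (kd ψ).comp (kd φ) = kd (ψ.comp φ) :=
  kd_ext (ψ.comp φ) (fun a x => by simp) (fun a x => by simp) (fun a => by simp)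

theorem kd_comp_apply (φ : A →ₐ[k] B) (ψ : B →ₐ[k] C) (x : Ω[A⁄k]) :
    kd ψ (kd φ x) = kd (ψ.comp φ) x :=
  DFunLike.congr_fun (kd_comp φ ψ) x

theorem kd_id (x : Ω[A⁄k]) : kd (AlgHom.id k A) x = x :=
  DFunLike.congr_fun (kd_ext (G := AddMonoidHom.id _) (AlgHom.id k A) (fun a x => by simp)
    (fun a x => rfl) (fun a => by simp)) x

/-- The map on tensor powers induced by an algebra map. -/
def tmap (φ : A →ₐ[k] B) : T k ι A →+ T k ι B :=
  letI := φ.toRingHom.toAlgebra
  haveI : IsScalarTower k A B := .of_algebraMap_eq fun r => (φ.commutes r).symm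
  (PiTensorProduct.lift
    (((PiTensorProduct.tprod B).restrictScalars A).compLinearMap
      (fun _ : ι => KaehlerDifferential.map k k A B))).toAddMonoidHom

theorem tmap_tprod (φ : A →ₐ[k] B) (v : ι → Ω[A⁄k]) :
    tmap φ (PiTensorProduct.tprod A v) = PiTensorProduct.tprod B (fun j => kd φ (v j)) := by
  letI := φ.toRingHom.toAlgebra
  haveI : IsScalarTower k A B := .of_algebraMap_eq fun r => (φ.commutes r).symm
  exact PiTensorProduct.lift.tprod v

@[simp] theorem tmap_smul (φ : A →ₐ[k] B) (a : A) (x : T k ι A) :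
    tmap φ (a • x) = φ a • tmap φ x := by
  letI := φ.toRingHom.toAlgebra
  haveI : IsScalarTower k A B := .of_algebraMap_eq fun r => (φ.commutes r).symm
  exact ((PiTensorProduct.lift (((PiTensorProduct.tprod B).restrictScalars A).compLinearMap
    (fun _ : ι => KaehlerDifferential.map k k A B))).map_smul a x).trans (algebraMap_smul B a _).symm

theorem tmap_ext {F G : T k ι A →+ T k ι B} (φ : A →ₐ[k] B) (hF : ∀ a x, F (a • x) = φ a • F x)
    (hG : ∀ a x, G (a • x) = φ a • G x)
    (h : ∀ v, F (PiTensorProduct.tprod A v) = G (PiTensorProduct.tprod A v)) : F = G := by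
  refine AddMonoidHom.ext fun x => ?_
  induction x using PiTensorProduct.induction_on with
  | smul_tprod a v => rw [hF, hG, h]
  | add y z hy hz => simp [hy, hz]

theorem tmap_comp (φ : A →ₐ[k] B) (ψ : B →ₐ[k] C) :
    (tmap ψ).comp (tmap (ι := ι) φ) = tmap (ψ.comp φ) :=
  tmap_ext (ψ.comp φ) (fun a x => by simp) (fun a x => by simp)
    (fun v => by simp [tmap_tprod, kd_comp_apply])

theorem tmap_comp_apply (φ : A →ₐ[k] B) (ψ : B →ₐ[k] C) (x : T k ι A) :
    tmap ψ (tmap φ x) = tmap (ψ.comp φ) x :=
  DFunLike.congr_fun (tmap_comp φ ψ) x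

theorem tmap_id (x : T k ι A) : tmap (AlgHom.id k A) x = x :=
  DFunLike.congr_fun (tmap_ext (G := AddMonoidHom.id _) (AlgHom.id k A) (fun a x => by simp)
    (fun a x => rfl) (fun v => by simp [tmap_tprod, kd_id])) x

/-- Nonempty tensor powers of differentials of the base vanish. -/
theorem subsingleton_self [Nonempty ι] : Subsingleton (T k ι k) := by
  refine ⟨fun x y => ?_⟩
  suffices h : ∀ z : T k ι k, z = 0 by rw [h x, h y]
  intro z
  have : ∀ w : Ω[k⁄k], w = 0 := fun w => by
    induction (span_range_derivation k k).ge (Submodule.mem_top (x := w)) using Submodule.span_induction with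
    | mem y hy =>
      obtain ⟨a, rfl⟩ := hy
      exact (D k k).map_algebraMap a
    | zero => rfl
    | add y z _ _ hy hz => rw [hy, hz, add_zero]
    | smul a y _ hy => rw [hy, smul_zero]
  induction z using PiTensorProduct.induction_on with
  | smul_tprod a v =>
    rw [MultilinearMap.map_coord_zero _ (Classical.arbitrary ι) (this _), smul_zero]
  | add y z hy hz => rw [hy, hz, add_zero]

variable [Finite ι]

/-- The basis of the tensor power given by a basis of the differentials. -/
def tBasis {κ : Type*} (b : Module.Basis κ A (Ω[A⁄k])) : Module.Basis (ι → κ) A (T k ι A) :=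
  Basis.piTensorProduct fun _ => b

theorem tBasis_apply {κ : Type*} (b : Module.Basis κ A (Ω[A⁄k])) (p : ι → κ) :
    tBasis b p = PiTensorProduct.tprod A (fun j => b (p j)) :=
  Basis.piTensorProduct_apply _ p

theorem map_eq_sum_repr {M N κ : Type*} [AddCommGroup M] [Module A M] [AddCommGroup N] [Module B N]
    (φ : A →ₐ[k] B) (F : M →+ N) (hF : ∀ a x, F (a • x) = φ a • F x) (b : Module.Basis κ A M) (x : M) :
    F x = (b.repr x).sum fun p c => φ c • F (b p) := by
  conv_lhs => rw [← b.linearCombination_repr x, Finsupp.linearCombination_apply, map_finsuppSum]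
  exact Finsupp.sum_congr fun p _ => hF _ _

/-- Coordinates of an induced map, when it carries a basis to a scaled basis. -/
theorem repr_map {M N κ : Type*} [AddCommGroup M] [Module A M] [AddCommGroup N] [Module B N]
    (φ : A →ₐ[k] B) (F : M →+ N) (hF : ∀ a x, F (a • x) = φ a • F x) (b : Module.Basis κ A M)
    (b' : Module.Basis κ B N) (w : κ → B) (h : ∀ p, F (b p) = w p • b' p) (x : M) (q : κ) :
    b'.repr (F x) q = φ (b.repr x q) * w q := by
  classical
  rw [map_eq_sum_repr φ F hF b x, map_finsuppSum, Finsupp.sum_apply, Finsupp.sum]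
  rw [Finset.sum_eq_single q]
  · simp [h]
  · intro p _ hp
    simp [h, Finsupp.single_eq_of_ne (Ne.symm hp)]
  · intro hq
    simp [Finsupp.notMem_support_iff.1 hq]

theorem tmap_tBasis {κ : Type*} (φ : A →ₐ[k] B) (b : Module.Basis κ A (Ω[A⁄k]))
    (b' : Module.Basis κ B (Ω[B⁄k])) (h : ∀ j, kd φ (b j) = b' j) (p : ι → κ) :
    tmap φ (tBasis b p) = tBasis b' p := by
  rw [tBasis_apply, tBasis_apply, tmap_tprod]
  exact congrArg _ (funext fun j => h _)

theorem repr_tmap {κ : Type*} (φ : A →ₐ[k] B) (b : Module.Basis κ A (Ω[A⁄k]))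
    (b' : Module.Basis κ B (Ω[B⁄k])) (h : ∀ j, kd φ (b j) = b' j) (x : T k ι A) (p : ι → κ) :
    (tBasis b').repr (tmap φ x) p = φ ((tBasis b).repr x p) := by
  rw [repr_map φ (tmap φ) (tmap_smul φ) (tBasis b) (tBasis b') (fun _ => 1)
    (fun q => by rw [tmap_tBasis φ b b' h, one_smul]), mul_one]

theorem tmap_injective {κ : Type*} (φ : A →ₐ[k] B) (hφ : Function.Injective φ)
    (b : Module.Basis κ A (Ω[A⁄k])) (b' : Module.Basis κ B (Ω[B⁄k])) (h : ∀ j, kd φ (b j) = b' j) :
    Function.Injective (tmap (ι := ι) φ) := fun x y hxy =>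
  (tBasis b).ext_elem fun p => hφ (by rw [← repr_tmap φ b b' h, hxy, repr_tmap φ b b' h])

omit [Finite ι] in
/-- A basis of differentials of a localization. -/
theorem exists_basis_of_isLocalization {κ : Type*} (S : Submonoid A) (φ : A →ₐ[k] B)
    (hloc : letI := φ.toRingHom.toAlgebra; IsLocalization S B) (b : Module.Basis κ A (Ω[A⁄k])) :
    ∃ b' : Module.Basis κ B (Ω[B⁄k]), ∀ j, kd φ (b j) = b' j := by
  letI := φ.toRingHom.toAlgebra
  haveI : IsScalarTower k A B := .of_algebraMap_eq fun r => (φ.commutes r).symm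
  haveI : IsLocalization S B := hloc
  exact ⟨b.ofIsLocalizedModule B S (KaehlerDifferential.map k k A B),
    fun j => (b.ofIsLocalizedModule_apply B S (KaehlerDifferential.map k k A B) j).symm⟩

end Groth.Agent.ReqForms45
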